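import Cfsg.Agent.H573.Spor.Lift
import Cfsg.Agent.CpAutMSeven.SixRow
import Cfsg.Agent.CpAutMSeven.RanksClass
import Cfsg.Agent.BpRankZero.MSix

/-!
# The Monster is not `PCent` for `p = 7` (helper573)

`C(x) / ⟨x⟩ ≅ He` for an element `x` of order 7.
-/

set_option autoImplicit false
set_option maxRecDepth 100000

namespace Cfsg.Agent.H573.Spor

namespace Monster

open Subgroup Cfsg
open Cfsg.Agent.LThreeMB (fr XX KChart.Cent KChart.pi KChart.chart)
open Cfsg.Agent.MonsterX Cfsg.Agent.MonsterX.Model Cfsg.Agent.MonsterX.MainSimple Cfsg.Agent.MonsterX.MainPack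
open Cfsg.Agent.MonsterX.MainBasic Cfsg.Agent.MonsterU
open Cfsg.Spor (Co1)

theorem card_He {G : Type*} [Group G] (h : Cfsg.Spor.IsoHe G) : Nat.card G = 4030387200 := by
  obtain ⟨e⟩ := h
  rw [Nat.card_congr e.toEquiv]
  exact Cfsg.Agent.S1695.result.2

/-- an element of order 7 with `C(x) / ⟨x⟩ ≅ He` -/
theorem exists_he : ∃ x : ↥InstData.M.G, orderOf x = 7 ∧ Cfsg.Spor.IsoHe (XX x) := by
  obtain ⟨x, hx, hxs⟩ := exists_lift (by norm_num : Nat.Prime 7) (by decide) Cfsg.Agent.CpAutMSeven.Ranks.orderOf_mk_r7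
  have hfr : fr (KChart.pi Cfsg.Agent.PreUniq.MonRow.cent x) = 2 ^ 6 := by
    show fr (KChart.pi MFive.Row.hc x) = 2 ^ 6
    rw [hxs]
    exact Cfsg.Agent.CpAutMSeven.Ranks.fr_r7
  exact ⟨x, by rw [Subgroup.orderOf_coe, hx], Cfsg.Agent.BpRankZero.MSix.isoHe_of hx hfr
    (Cfsg.Agent.CpAutMSeven.SixRow.heHyp x hx hfr)⟩

theorem seven : ¬ PCent 7 ↥InstData.M.G := by
  have : Fact (Nat.Prime 7) := ⟨by norm_num⟩
  have := finite
  obtain ⟨x, hx, h⟩ := exists_he
  refine not_pcent_of_not_dvd (x := x) (k := 1) (n := 6) (by rw [hx, pow_one]) (by rw [card_model]; norm_num) ?_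
  rw [card_XX, card_He h, hx]
  norm_num

end Monster

theorem m_7 {G : Type*} [Group G] (h : Cfsg.Spor.IsoM G) : ¬ PCent 7 G := by
  obtain ⟨e⟩ := h
  exact of_iso (by norm_num) (by rw [Monster.card_model]; norm_num) Monster.seven
    ⟨e.trans Cfsg.Agent.MonsterP.Equiv.equiv.some⟩

end Cfsg.Agent.H573.Spor
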