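import Cfsg.Agent.H573.Spor.Base
import Cfsg.Agent.SporadicStructure.TabPerm
import Cfsg.Agent.S0364
import Cfsg.Agent.MTwelveType.SylowModel

/-!
# `M₁₂` and `M₂₄` are not `PCent` for `p = 3` (helper573)
-/

set_option autoImplicit false
set_option maxRecDepth 100000

namespace Cfsg.Agent.H573.Spor

open Subgroup Cfsg
open Cfsg.Agent.SporadicStructure.TabPerm Cfsg.Agent.SporadicA.GolayBase
open scoped Pointwise

namespace Mat

def FA : List ℕ := [12, 8, 6, 0, 4, 5, 16, 11, 9, 1, 15, 22, 3, 13, 21, 19, 2, 14, 18, 10, 20, 17, 7, 23]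
def FB : List ℕ := [0, 3, 2, 16, 13, 17, 12, 5, 8, 6, 10, 23, 9, 18, 22, 15, 1, 7, 4, 19, 14, 11, 20, 21]
def FC : List ℕ := [2, 3, 8, 16, 4, 20, 9, 22, 0, 12, 10, 7, 6, 13, 21, 15, 1, 14, 18, 19, 23, 17, 11, 5]
def FX : List ℕ := [1, 2, 0, 16, 13, 7, 3, 23, 18, 8, 22, 19, 4, 12, 20, 10, 6, 11, 9, 17, 21, 14, 15, 5]

/-- the inverse table -/
def sqr (F : List ℕ) : List ℕ := F.map fun i => F.getD i 0

theorem chkA : chk FA (sqr FA) = true := by decide +kernel
theorem chkB : chk FB (sqr FB) = true := by decide +kernel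
theorem chkC : chk FC (sqr FC) = true := by decide +kernel
theorem chkX : chk FX (sqr FX) = true := by decide +kernel

/-- the permutations -/
def a : Equiv.Perm GolayPt := tabPerm FA (sqr FA) chkA
def b : Equiv.Perm GolayPt := tabPerm FB (sqr FB) chkB
def c : Equiv.Perm GolayPt := tabPerm FC (sqr FC) chkC
def x : Equiv.Perm GolayPt := tabPerm FX (sqr FX) chkX

theorem dod : Spor.squareDodecad = fin 340831 := by
  have h : word 340831 = qrWord 0 := by
    have := word_qrMask 0
    rwa [show qrMask (0 : ZMod 23).val = 340831 by decide +kernel] at this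
  unfold Spor.squareDodecad
  rw [← h, support₂_word]

theorem mem12 (F G : List ℕ) (h : chk F G = true) (hM : chkM F = true) (hd : pull G 340831 = 340831) :
    tabPerm F G h ∈ Spor.M12 := by
  refine ⟨tabPerm_mem_M24 F G h hM, ?_⟩
  change tabPerm F G h ∈ MulAction.stabilizer (Equiv.Perm GolayPt) Spor.squareDodecad
  rw [MulAction.mem_stabilizer_iff, dod, tabPerm_smul_fin, hd]

theorem a_mem : a ∈ Spor.M12 := mem12 _ _ _ (by decide +kernel) (by decide +kernel)
theorem b_mem : b ∈ Spor.M12 := mem12 _ _ _ (by decide +kernel) (by decide +kernel)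
theorem c_mem : c ∈ Spor.M12 := mem12 _ _ _ (by decide +kernel) (by decide +kernel)
theorem x_mem : x ∈ Spor.M12 := mem12 _ _ _ (by decide +kernel) (by decide +kernel)

theorem cube {s : Equiv.Perm GolayPt} (h : ∀ p, s (s (s p)) = p) : s ^ 3 = 1 := by
  ext1 p; exact h p

theorem a3 : a ^ 3 = 1 := cube (by decide +kernel)
theorem b3 : b ^ 3 = 1 := cube (by decide +kernel)
theorem c3 : c ^ 3 = 1 := cube (by decide +kernel)
theorem x3 : x ^ 3 = 1 := cube (by decide +kernel)
theorem ac : a * c = c * a := by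
  have h : ∀ p, a (c p) = c (a p) := by decide +kernel
  ext1 p; exact h p
theorem bc : b * c = c * b := by
  have h : ∀ p, b (c p) = c (b p) := by decide +kernel
  ext1 p; exact h p
theorem ab : a * b = b * a * c := by
  have h : ∀ p, a (b p) = b (a (c p)) := by decide +kernel
  ext1 p; exact h p
theorem c_ne : c ≠ 1 := by
  intro h
  have h1 : c (some 0) = some 0 := by rw [h]; rfl
  exact absurd h1 (by decide +kernel)
theorem x_ne : x ≠ 1 := by
  intro h
  have h1 : x (some 0) = some 0 := by rw [h]; rfl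
  exact absurd h1 (by decide +kernel)
theorem ab_ne : a * b ≠ b * a := by
  intro h
  have h1 := ab
  rw [h] at h1
  exact c_ne (mul_eq_left.1 h1.symm)

theorem fixC : (Finset.univ.filter fun i : GolayPt => c i = i).card = 6 := by decide +kernel
theorem fixX : (Finset.univ.filter fun i : GolayPt => x i = i).card = 0 := by decide +kernel

theorem main (M : Subgroup (Equiv.Perm GolayPt)) (hM : Spor.M12 ≤ M) (h1 : 27 ∣ Nat.card M) (h2 : ¬ 81 ∣ Nat.card M) :
    ¬ PCent 3 M := by
  have : Fact (Nat.Prime 3) := ⟨by norm_num⟩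
  intro h
  let P : Sylow 3 M := default
  have hP : Nat.card (P : Subgroup M) = 3 ^ 3 := card_sylow_of P (by norm_num; exact h1) (by norm_num; exact h2)
  have hna : ¬ IsMulCommutative (P : Subgroup M) := by
    refine not_comm_of_class_two (a := ⟨a, hM a_mem⟩) (b := ⟨b, hM b_mem⟩) (c := ⟨c, hM c_mem⟩) (i := 1) (j := 1) (k := 1)
      ?_ ?_ ?_ ?_ ?_ ?_ ?_ P
    · exact Subtype.ext a3
    · exact Subtype.ext b3
    · exact Subtype.ext c3
    · exact Subtype.ext ac
    · exact Subtype.ext bc
    · exact Subtype.ext ab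
    · exact fun h => ab_ne (congrArg Subtype.val h)
  have h3 := h.fix_eq P hP hna M.subtype (x := ⟨c, hM c_mem⟩) (y := ⟨x, hM x_mem⟩)
    (orderOf_eq_prime (Subtype.ext c3) fun h => c_ne (congrArg Subtype.val h))
    (orderOf_eq_prime (Subtype.ext x3) fun h => x_ne (congrArg Subtype.val h))
  have h4 : (Finset.univ.filter fun i : GolayPt => c i = i).card = (Finset.univ.filter fun i : GolayPt => x i = i).card := h3
  rw [fixC, fixX] at h4
  exact absurd h4 (by norm_num)

end Mat

theorem m24_3 {G : Type*} [Group G] (h : Cfsg.Spor.IsoM24 G) : ¬ PCent 3 G := by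
  obtain ⟨e⟩ := h
  have : Fact (Nat.Prime 3) := ⟨by norm_num⟩
  have : Finite G := Finite.of_equiv _ e.symm.toEquiv
  exact fun hc => Mat.main M24 (fun _ h => h.1) (by rw [S0364.result]; norm_num) (by rw [S0364.result]; norm_num) (hc.congr e)

theorem m12_3 {G : Type*} [Group G] (h : Cfsg.Spor.IsoM12 G) : ¬ PCent 3 G := by
  obtain ⟨e⟩ := h
  have : Fact (Nat.Prime 3) := ⟨by norm_num⟩
  have : Finite G := Finite.of_equiv _ e.symm.toEquiv
  exact fun hc => Mat.main Spor.M12 le_rfl (by rw [MTwelveType.SylowModel.card_M12]; norm_num)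
    (by rw [MTwelveType.SylowModel.card_M12]; norm_num) (hc.congr e)

end Cfsg.Agent.H573.Spor
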