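import Cfsg.Agent.H573.Spor.Sep
import Cfsg.Agent.S1699

/-!
# `PCent 7` for `O'N` implies abelian Sylow 7-subgroups (helper573)

In the 45-dimensional projective representation over `ZMod 7` an element of the class `7A` has a fixed space of
dimension 8, an element of the class `7B` one of dimension 7.
-/

set_option autoImplicit false
set_option maxRecDepth 100000

namespace Cfsg.Agent.H573

open Cfsg.Agent.SporRec
open Cfsg.Agent.SporRec.PackSeven hiding rho
open Cfsg.Agent.SporRec.PackSevenOrb Cfsg.Agent.SporRec.ON45Mats
  Cfsg.Agent.SporRec.ONLower Cfsg.Spor.ON
open Cfsg.Agent.SporadicB.ON45Core (M45 center_cases)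

/-- linear algebra: `A` fixes the columns of `F`, the fixed vectors of `B` are determined by few coordinates -/
theorem rank_sep {K : Type*} [Field K] {n a : Type*} [Fintype n] [Fintype a] [DecidableEq n] [DecidableEq a]
    {A B C P Q : Matrix n n K} {F : Matrix n a K} (s : Finset n) {f : a → n}
    (hF : A * F = F) (hFi : ∀ i j, F (f i) j = if i = j then 1 else 0)
    (hCi : ∀ v : n → K, C.mulVec v = 0 → v = 0)
    (hC : ∀ v : n → K, A.mulVec v = v → B.mulVec (C.mulVec v) = C.mulVec v)
    (hQ : P * B = Q) (hQP : ∀ i j, j ∉ s → Q i j = P i j + if i = j then 1 else 0)
    (hab : s.card < Fintype.card a) : False := by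
  -- the linear map `v ↦ (C F v) | s`
  let L : (a → K) →ₗ[K] (s → K) :=
    (LinearMap.funLeft K K (fun x : s => (x : n))).comp ((Matrix.mulVecLin C).comp (Matrix.mulVecLin F))
  have hL : Function.Injective L := by
    rw [← LinearMap.ker_eq_bot, LinearMap.ker_eq_bot']
    intro v hv
    have h1 : A.mulVec (F.mulVec v) = F.mulVec v := by rw [Matrix.mulVec_mulVec, hF]
    have h2 := hC _ h1
    have h3 : C.mulVec (F.mulVec v) = 0 := by
      have h0 : ∀ j ∈ s, C.mulVec (F.mulVec v) j = 0 := fun j hj => congrFun hv ⟨j, hj⟩
      set w := C.mulVec (F.mulVec v) with hw
      have h4 : Q.mulVec w = P.mulVec w := by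
        rw [← hQ, ← Matrix.mulVec_mulVec, h2]
      ext i
      have h5 := congrFun h4 i
      rw [Matrix.mulVec, Matrix.mulVec, dotProduct, dotProduct] at h5
      have h6 : ∀ j, Q i j * w j = P i j * w j + if i = j then w j else 0 := by
        intro j
        by_cases hj : j ∈ s
        · rw [h0 j hj]; simp
        · rw [hQP i j hj]
          split_ifs <;> ring
      simp_rw [h6] at h5
      rw [Finset.sum_add_distrib] at h5
      have h7 : ∑ j, (if i = j then w j else 0) = 0 := by
        have := add_eq_left.1 h5
        exact this
      rw [Finset.sum_ite_eq] at h7
      simpa using h7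
    have h4 := hCi _ h3
    ext j
    have h5 := congrFun h4 (f j)
    rw [Matrix.mulVec, dotProduct] at h5
    simp_rw [hFi] at h5
    simpa using h5
  have h1 := LinearMap.finrank_le_finrank_of_injective hL
  rw [Module.finrank_fintype_fun_eq_card, Module.finrank_fintype_fun_eq_card, Fintype.card_coe] at h1
  omega

namespace Spor.ONSeven

def pFx : ℕ := 0x1000000005000000000001002003005006003006001001004001001006004000005006005000000001002000006002006000000005000000000000006000002001005000001000004000000000001004000003004000006004003003004002001000005005000002003001001003002000003006001005004001000000000003000006004001000000001000000000000003000006005002000002000004000002006001002005001000004005003002002002003005002002005002003000000000005000002002005000000000000001000000006003005000002006006000004006004002000000003006004003006005000006004002005006000004006002000000000005000004002003000000000000000001000001002005005005002006001000004002005002003004006005002006006001006001001002006004002004002000000000003000004004003000000000000000000001002001004000003002000000006002006003000006001002006001002004000002006002004003000006002003000000000004000006003001000000000000000000000000000000000000000000000000000000000000000000000000000000000000000000000000000000000000000001005000005004003003002000000000000000000000000000000000000000000000000000000000000000000000000000000000000000000000000000000000000000000000001003006005004002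

def pPy : ℕ := 0x3003006002006006000005004002006003002006003001001003001000002004001002002002006002000003004004004005003004004001000000000000000000000005000005004003004001003004000004004002004004000004005000000005004000002005004004003002000004001004003004006002004000000000000000000000001006000002001004003005002006000004001003002006005005000001003001001004006004000004000001004002006001006002005005000000000000000000000002003000002003005002000003002005001003004003003006002003002001000006006000001004003003005005000004003003005005004000000000000000000000002000006003003004001005003000004000001005006005006004001000003000003003004006003001004001003001001004005006006005000000000000000000000004004000001001003002003005006000002006000004003006002006006006006005006000002003004003002000000001001005005003000000000000000000000000001004000006000001000004002002004003001005001002006002004006005004004002002002004003004006003005001001005005006000000000000000000000000003006002005000000005005002004006001001002006002002006002004004001002003004006002002001000004001005004006002002000000000000000000000000002004003002005003001003000004000003002001003002001003000000004000002003004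00200500500100000200100400400500100400200000000000000000000000500600100000000600300500100000100300600100500100400300500400600400400200100400300000300000200300200600600400200500000000000000000000000500100400000200400000100600300600000100400300300200400000000000300300500000600500200600000200500300000000500500100000000000000000000000400600500000000400600000200600300600500500400300000300300600300600600300600300400500100600000600000200300300300400000000000000000000000400200500100100300200100000300400000000200600200000500400000500100200400600500100400000500100500000500100200500100000000000000000000000400400100400600100300400200000500200400600400100500600300100500300100300300400000200000000600400200100100600000500000000000000000000000400100600200600300100500600400500500000600300400400300400100300500200400400600200300200600000000300100200100400500000000000000000000000300400000200600100500300200400000200300400200500600600400500400100500200300600200500500000600400300600200300200200000000000000000000000100000300100200500400400100300100600200400100000600300400500100200100100200300300300000500600300100500200600200000000000000000000000000500600500300100400500300500100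30010040010060020010030000050040040010010040060010050030040050060050040060040040010000000000000000000000010050010010000030000010040000040040010010060040010010050050050060060030030020000020050010060050020040040040030030000000000000000000000050060010020000050040030010020020000060010020060050040030030040030010000050050060050010050020030010050030030050050000000000000000000000040060010000060020020000000000000020030020020040020040020010030020000000010000020000020000030000030040040060030020000000000000000000000020060000040030020030030050050030060050000050010060000050060060060000040030050010000020060030000040010010020040020000000000000000000000040020050060000040000030040060000030010020000020010020040050000000010060060010020020020050050000030060030010060060000000000000000000000040020030010040050010020030000050020060000040060020020030020000040030020050050060050000040020000060020050060010050000000000000000000000010060050010020040040050000050020000010010020010030040000000060050030040000060050030030040050050050000050030060050000000000000000000000060000030020020060000050020040040020030040000050050050010030010000060010050000000010000050030030040060060050040060000000000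00000000000004000000006006003006002006006006000005001001002005003001001005003000002002005002006003003001005002002002006001005000000000000000000000001000003006003004006000003001002000001006004000003003005003004002000004002005003005005006003006005002001000005000000000000000000000000002000001006000001004006001003005000006006001006002005001005002001005005001004000003005003004006005005002000001001000000000000000000000004002002002000005005003003001001003002005003004004000003002002001006003002004001002004006006001003003003005004006000000000000000000000005006002006001001001004003006001003004005006006003005003005004001004000001005004006003004004005003004001005002001000000000000000000000001000005000002004006004001004001003006001000003006002006006002001006005004004005006005006000005005006002004003005000000000000000000000003003005005003003006000006006001004005005006005005004004000006006005004005003002006006000006003004004006004001006000000000000000000000000006000003001000002005001006004001006005005003000002002006000000005000003006004004006006005001005001005003001000000000000000000000000005005006001004000006003003002002000002000005003003004005005002001004002005004001006001000001004005005005006002002000000000000000000000001002006003002006000000002006004001000006001004006006001005003005002004003002006001003006000001001004000003001004000000000000000000000005001003006003002004002005001006001002004001004004000003001000000001004005005002000002004006002003005005002006003000000000000000000000005003005005003006001002002002002006006000003005002001001000002006003003006003004005001004002002000005000000005002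

def wX : List Gen := [.d, .c, .a, .d, .e, .c]
def wY : List Gen := [.e, .d, .a, .b, .c, .b, .d, .c, .d, .g]

theorem ok_F : Ok 8 pFx := ok_of_okB (by decide +kernel)
theorem ok_P : Ok 45 pPy := ok_of_okB (by decide +kernel)

theorem fix_F : mulP 8 (ev wX) pFx = pFx := Nat.eq_of_beq_eq_true (by decide +kernel)

theorem seven_X : pw (ev wX) 7 = pI := Nat.eq_of_beq_eq_true (by decide +kernel)
theorem seven_Y : pw (ev wY) 7 = pI := Nat.eq_of_beq_eq_true (by decide +kernel)
theorem one_X : Nat.beq (pw (ev wX) 3) pI = false := by decide +kernel
theorem one_Y : Nat.beq (pw (ev wY) 3) pI = false := by decide +kernel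

/-- digit, for the kernel -/
def dgt (X i j : ℕ) : ℕ := Nat.land (Nat.shiftRight X (Nat.mul 12 (Nat.add (Nat.mul 45 j) i))) 4095

theorem dgt_eq (X i j : ℕ) : dgt X i j = ent X i j := by
  change X >>> (12 * (45 * j + i)) &&& 4095 = X >>> (12 * (45 * j + i)) % 4096
  rw [show (4096 : ℕ) = 2 ^ 12 by norm_num, ← Nat.and_two_pow_sub_one_eq_mod]

/-- the pivots -/
def piv (k : ℕ) : ℕ := if k = 0 then 5 else if k = 1 then 7 else if k ≤ 4 then 36 + k else 37 + k

def pivB : Bool := allB (fun j => allB (fun i => Nat.beq (dgt pFx (piv i) j) (if i = j then 1 else 0)) 8) 8
theorem pivB_true : pivB = true := by decide +kernel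

def remB (P Q : ℕ) : Bool := allB (fun j => allB (fun i =>
  Nat.beq (Nat.mod (dgt Q i j) 7) (Nat.mod (Nat.add (dgt P i j) (Bool.rec 0 1 (Nat.beq i j))) 7)) 45) 38
theorem remB_true : remB pPy (mulP 45 pPy (ev wY)) = true := by decide +kernel


def mF : Matrix (Fin 45) (Fin 8) (ZMod 7) := toMat 8 pFx
def mP : M45 := toMat 45 pPy

theorem piv_lt : ∀ k < 8, piv k < 45 := by decide

theorem X_F : toMat 45 (ev wX) * mF = mF := by
  rw [mF, ← toMat_mulP (ok_ev wX) ok_F, fix_F]

theorem mF_piv (i j : Fin 8) : mF ⟨piv i, piv_lt i i.2⟩ j = if i = j then 1 else 0 := by
  rw [mF, toMat_apply]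
  have h := Nat.eq_of_beq_eq_true (allB_spec (allB_spec pivB_true j j.2) i i.2)
  rw [dgt_eq] at h
  simp only [h]
  by_cases hij : i = j
  · subst hij; simp
  · have : ¬ ((i : ℕ) = j) := fun h' => hij (Fin.ext h')
    simp [hij, this]

theorem rem_P (i j : Fin 45) (hj : j ∉ Finset.univ.filter (fun k : Fin 45 => 38 ≤ (k : ℕ))) :
    (mP * toMat 45 (ev wY)) i j = mP i j + if i = j then 1 else 0 := by
  have hj' : (j : ℕ) < 38 := by simpa using hj
  rw [mP, ← toMat_mulP ok_P (ok_ev wY), toMat_apply, toMat_apply]
  have h := Nat.eq_of_beq_eq_true (allB_spec (allB_spec remB_true j hj') i i.2)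
  rw [dgt_eq, dgt_eq] at h
  have h2 : ((ent (mulP 45 pPy (ev wY)) i j : ℕ) : ZMod 7) =
      ((ent pPy i j + (Bool.rec 0 1 (Nat.beq i j) : ℕ) : ℕ) : ZMod 7) := (ZMod.natCast_eq_natCast_iff _ _ _).2 h
  rw [h2, Nat.cast_add]
  congr 1
  by_cases hij : i = j
  · subst hij; simp
  · have h3 : Nat.beq i j = false := by
      rw [← Bool.not_eq_true]; exact fun h' => hij (Fin.ext (Nat.eq_of_beq_eq_true h'))
    rw [h3, if_neg hij]; simp

theorem simple_ON : IsSimpleGroup Cfsg.Spor.ON := Cfsg.Agent.S1699.result.1
theorem card_ON : Nat.card Cfsg.Spor.ON = 460815505920 := Cfsg.Agent.S1699.result.2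
theorem finite_ON : Finite Cfsg.Spor.ON := Nat.finite_of_card_ne_zero (by rw [card_ON]; norm_num)

theorem rho_inj : Function.Injective rho := by
  have := finite_ON
  exact (card_of_le card_ON.le).2

/-- the element of `ON` given by a word -/
def wG (w : List Gen) : Cfsg.Spor.ON := (w.map PresentedGroup.of).prod

theorem rho_wG (w : List Gen) : rho (wG w) = pr (wS w) := by
  induction w with
  | nil => simp [wG, wS]
  | cons x w ih =>
    simp only [wG, wS, List.map_cons, List.prod_cons, map_mul] at *
    rw [ih, rho_of]

theorem pow_seven {w : List Gen} (h : pw (ev w) 7 = pI) : wS w ^ 7 = 1 := by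
  apply Subtype.ext
  rw [coe_pow_wS, h, toMat_I]
  rfl

theorem cube_two : (2 : ZMod 7) ^ 3 = 1 := by decide
theorem cube_four : (4 : ZMod 7) ^ 3 = 1 := by decide

theorem orderOf_wG {w : List Gen} (h : pw (ev w) 7 = pI) (h3 : Nat.beq (pw (ev w) 3) pI = false) :
    orderOf (wG w) = 7 := by
  have h7 : Fact (Nat.Prime 7) := ⟨by norm_num⟩
  apply orderOf_eq_prime
  · apply rho_inj
    rw [map_pow, rho_wG, ← map_pow, pow_seven h, map_one, map_one]
  · intro h1
    have h2 : pr (wS w) = 1 := by rw [← rho_wG, h1, map_one]
    rw [pr_eq_one_iff] at h2
    have h4 : (wS w : SL45) ^ 3 = 1 := by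
      apply Subtype.ext
      have e : ((wS w ^ 3 : SL45) : M45) = (wS w : M45) ^ 3 := Matrix.SpecialLinearGroup.coe_pow _ _
      refine e.trans ?_
      rcases center_cases h2 with hc | hc | hc <;> rw [hc, smul_pow, one_pow]
      · simp
      · rw [cube_two, one_smul]; rfl
      · rw [cube_four, one_smul]; rfl
    have h5 : toMat 45 (pw (ev w) 3) = toMat 45 pI := by
      rw [← coe_pow_wS, toMat_I, h4]; rfl
    rw [toMat_inj (ok_pw _ _) ok_I h5, Nat.beq_refl] at h3
    exact absurd h3 (by simp)

theorem aux_seven {G : Type*} [Group G] {c x y z : G} {k : ℕ} (hz : ∀ u, z * u = u * z)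
    (h : c * x * c⁻¹ = y ^ k * z) (hx : x ^ 7 = 1) (hy : y ^ 7 = 1) : z ^ 7 = 1 := by
  have e1 : (c * x * c⁻¹) ^ 7 = 1 := by rw [conj_pow, hx]; group
  have hc : Commute (y ^ k) z := (hz _).symm
  rw [h, hc.mul_pow, ← pow_mul, mul_comm k 7, pow_mul, hy, one_pow, one_mul] at e1
  exact e1

theorem not_conj (g : Cfsg.Spor.ON) (k : ℕ) : g * wG wX * g⁻¹ ≠ wG wY ^ k := by
  intro h
  obtain ⟨C, hC⟩ := QuotientGroup.mk'_surjective (Subgroup.center SL45) (rho g)
  have hC' : pr C = rho g := hC
  have h1 := congrArg rho h
  rw [map_mul, map_mul, map_pow, map_inv, rho_wG, rho_wG, ← hC', ← map_inv, ← map_mul, ← map_mul, ← map_pow] at h1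
  have h2 : pr ((wS wY ^ k)⁻¹ * (C * wS wX * C⁻¹)) = 1 := by rw [map_mul, map_inv, h1]; group
  rw [pr_eq_one_iff] at h2
  set z : SL45 := (wS wY ^ k)⁻¹ * (C * wS wX * C⁻¹) with hz
  have h3 : C * wS wX * C⁻¹ = wS wY ^ k * z := by rw [hz]; group
  have hzc : ∀ u : SL45, z * u = u * z := fun u => (Subgroup.mem_center_iff.1 h2 u).symm
  -- `z ^ 7 = 1`
  have h7 : z ^ 7 = 1 := aux_seven hzc h3 (pow_seven seven_X) (pow_seven seven_Y)
  have hz3 : z ^ 3 = 1 := by
    apply Subtype.ext
    have e : ((z ^ 3 : SL45) : M45) = (z : M45) ^ 3 := Matrix.SpecialLinearGroup.coe_pow _ _
    refine e.trans ?_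
    rcases center_cases h2 with hc | hc | hc <;> rw [hc, smul_pow, one_pow]
    · simp
    · rw [cube_two, one_smul]; rfl
    · rw [cube_four, one_smul]; rfl
  have hz1 : z = 1 := by
    have : z ^ 7 = z ^ 3 * z ^ 3 * z := by group
    rw [h7, hz3] at this
    simpa using this.symm
  rw [hz1, mul_one] at h3
  -- `wS wY` is a power of `wS wY ^ k`
  have hk : ¬ 7 ∣ k := by
    rintro ⟨j, rfl⟩
    have h4 : wG wY ^ (7 * j) = 1 := by
      rw [pow_mul, ← orderOf_wG seven_Y one_Y, pow_orderOf_eq_one, one_pow]
    rw [h4] at h
    have h5 : wG wX = 1 := by
      calc wG wX = g⁻¹ * (g * wG wX * g⁻¹) * g := by group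
        _ = 1 := by rw [h]; group
    have h6 := orderOf_wG seven_X one_X
    rw [h5, orderOf_one] at h6
    omega
  have hco : Nat.Coprime k 7 := ((Nat.Prime.coprime_iff_not_dvd (by norm_num)).2 hk).symm
  obtain ⟨m, hm⟩ := Nat.exists_mul_mod_eq_one_of_coprime hco (by norm_num)
  have hY : (wS wY ^ k) ^ m = wS wY := by
    rw [← pow_mul, ← Nat.div_add_mod (k * m) 7, hm.2, pow_add, pow_mul, pow_seven seven_Y, one_pow, one_mul, pow_one]
  -- matrices
  have hA : ((wS wX : SL45) : M45) = toMat 45 (ev wX) := coe_wS wX
  have hB : ((wS wY : SL45) : M45) = toMat 45 (ev wY) := coe_wS wY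
  refine rank_sep (A := ((wS wX : SL45) : M45)) (B := ((wS wY : SL45) : M45)) (C := (C : M45))
    (P := mP) (Q := mP * toMat 45 (ev wY)) (F := mF)
    (Finset.univ.filter (fun k : Fin 45 => 38 ≤ (k : ℕ))) (f := fun i : Fin 8 => ⟨piv i, piv_lt i i.2⟩)
    (by rw [hA]; exact X_F) mF_piv ?_ ?_ (by rw [hB]) rem_P ?_
  · intro v hv
    have h4 : ((C⁻¹ : SL45) : M45) * (C : M45) = 1 := by
      rw [← Matrix.SpecialLinearGroup.coe_mul, inv_mul_cancel]; rfl
    calc v = (1 : M45).mulVec v := (Matrix.one_mulVec v).symm
      _ = ((C⁻¹ : SL45) : M45).mulVec ((C : M45).mulVec v) := by rw [Matrix.mulVec_mulVec, h4]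
      _ = 0 := by rw [hv, Matrix.mulVec_zero]
  · intro v hv
    have h4 : ((wS wY ^ k : SL45) : M45).mulVec ((C : M45).mulVec v) = (C : M45).mulVec v := by
      have h5 : wS wY ^ k * C = C * wS wX := by rw [← h3]; group
      rw [Matrix.mulVec_mulVec, ← Matrix.SpecialLinearGroup.coe_mul, h5, Matrix.SpecialLinearGroup.coe_mul,
        ← Matrix.mulVec_mulVec, hv]
    have h5 : ∀ j : ℕ, (((wS wY ^ k) ^ j : SL45) : M45).mulVec ((C : M45).mulVec v) = (C : M45).mulVec v := by
      intro j
      induction j with
      | zero => rw [pow_zero, Matrix.SpecialLinearGroup.coe_one, Matrix.one_mulVec]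
      | succ j ih => rw [pow_succ, Matrix.SpecialLinearGroup.coe_mul, ← Matrix.mulVec_mulVec, h4, ih]
    have h6 := h5 m
    rwa [hY] at h6
  · rw [Fintype.card_fin]
    decide

theorem seven (h : PCent 7 Cfsg.Spor.ON) (P : Sylow 7 Cfsg.Spor.ON) :
    IsMulCommutative (P : Subgroup Cfsg.Spor.ON) := by
  have h7 : Fact (Nat.Prime 7) := ⟨by norm_num⟩
  have := finite_ON
  exact h.mulComm_of_sep (by rw [card_ON]; norm_num) (by rw [card_ON]; norm_num) (orderOf_wG seven_X one_X)
    (orderOf_wG seven_Y one_Y) not_conj P

end Spor.ONSeven

theorem Spor.on_7 {G : Type*} [Group G] (h : Cfsg.Spor.IsoON G) (hc : PCent 7 G) (P : Sylow 7 G) :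
    IsMulCommutative (P : Subgroup G) :=
  Spor.mulComm_of_iso (by norm_num) (by rw [Spor.ONSeven.card_ON]; norm_num) Spor.ONSeven.seven h hc P

end Cfsg.Agent.H573
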