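import Cfsg.Agent.H573.Spor.Co0

/-!
# Elements of order 5 of `HS` (helper573)

`a`, `b` generate an extraspecial group of order 125 with centre `⟨c⟩`; `a` has fixed rank 8, `c` has fixed rank 4.

Generated by a script; checked by the kernel.
-/

set_option autoImplicit false
set_option maxRecDepth 100000

namespace Cfsg.Agent.H573.Spor.HSFive

open Subgroup Cfsg Cfsg.Agent.SporadicA Cfsg.Agent.SporadicStructure.Co0Matrix Cfsg.Agent.CoOneType.CoEval
open Cfsg.Agent.LThreeCo1.Ev Cfsg.Agent.LThreeMB.Fix Cfsg.Agent.MFive.FixN Cfsg.Agent.H573.Spor.Co0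
open Cfsg.Agent.LThreeMB (fr)
open Cfsg.Spor (Co1)

def nA : ℕ := 0xb4210942108425084a50942128420e849d283a4e74a1294212849d093a5083a4e83a5294a1294212839d0949d09421074210841d083ad07420e842129421074210842d0839d07420e84212839ce84a5293a127421284a5093a50839d284a5274a0e9421284a50749d0849d284a5293a0e9420e839d094a5084a5283a5294a0e7420e84a50939d0849ce849ce94a129420e84a50949d09421074210841d0839d0b420e84212849d2839d294a127421283a5074a5083a52849d274a129420e83a5093a5084a4e849d274a0e74212849d094a5084a52849d293a1294212849d0739d094210b4210841d0839d07420e8421284a5284a4e73a127421283a50949d083a5284a4e94a127420e849d074a509421074210841d0839d0742168421284a4e84a4e94a0e9421283a5073a5083a52839ce93a0e9421284a5094a509421074210841d0859d07420e8421284a4e83a5273a129420e84a5074a5074210942108425084a509421284216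
def nB : ℕ := 0xb4a108421094a5084a10842508420e93a108421073ad083a10841d08421293a1084210b39d083a10841d0842128425293a528420e7424e94a12939d0841d294a4e8420e7425274a0e94a5093a1084210739d083a10842d0842128424e94a5284212741ce73a1294a50841d274a52842129425273a12939d08425273a4e842129424e93a0e94a5084252749ce84212741d294a1293a5093a1084210759d083a10841d084212841ce949ce842129424e94a12949d084252749d28420e9424e74a1274a50841d2939d2842127425293a1274a508424e939d2842129425274a0e93a5093a1084210739d085a10841d08421295a1084210739d083a10841d0842128424e74a52842127425294a0e749d0841d294a5284212941ce94a0e73a508424e94a4e8420e9425293a1273a5084252949d28420e941d293a0e949d08425293a4e84212941d274a12749d0841ce73a528420e941d294a1294a5074a108421094a5084a108425084216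
def nC : ℕ := 0xb42108421284a1084a129421084a0e942108420e83a1083a167421083a12839d2749d09425294250849ce9425083a4e93a509425294250839d2941d0942108420e83a1083a0e7421085a12849ce73a509424e941d084a529425083a4e949d0941d2941d084a527425083a5274a50941ce7425083a529425084a52739d0741d29425084a52941d0849d2939d0942527425083a5274250942108420e83a1085a0e7421083a12942108420e83a1083a0eb421083a12942108421683a1083a0e7421083a12849d294a50941d2741d0849d2941d084a52949d09424e941d083a4e941d083a5293a5074252741d084a4e9425084a4e949d07424e74250849d294250942108420e85a1083a0e7421083a1284a5274a5074252941d0839d274250849ce94a50741d29425083a4e9425084a5293a50941ce94250849ce7425084a4e74a50942527425084a4e741d0839d294a507424e9425084a52741d0742108421284a1084a129421084a16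

theorem okA : okN nA = true := by decide +kernel
theorem okB : okN nB = true := by decide +kernel
theorem okC : okN nC = true := by decide +kernel

def gA : Co0 := mk (ok_of_okN okA)
theorem repA : Rep gA (dec nA) := rep_mk _
def gB : Co0 := mk (ok_of_okN okB)
theorem repB : Rep gB (dec nB) := rep_mk _
def gC : Co0 := mk (ok_of_okN okC)
theorem repC : Rep gC (dec nC) := rep_mk _

/-- the elements -/
def e : ℕ → Co0
  | 0 => gA
  | 1 => gB
  | _ => gC

/-- their matrices -/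
def Ms : ℕ → List (List ℤ)
  | 0 => dec nA
  | 1 => dec nB
  | _ => dec nC

theorem hM : ∀ i, Rep (e i) (Ms i)
  | 0 => repA
  | 1 => repB
  | _ + 2 => repC

theorem a_pow : gA ^ 5 = 1 := by
  have h := eq_of_eqB hM (w := [0, 0, 0, 0, 0]) (w' := []) (by decide +kernel)
  simpa [e, pow_succ, mul_assoc] using h
theorem b_pow : gB ^ 5 = 1 := by
  have h := eq_of_eqB hM (w := [1, 1, 1, 1, 1]) (w' := []) (by decide +kernel)
  simpa [e, pow_succ, mul_assoc] using h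
theorem c_pow : gC ^ 5 = 1 := by
  have h := eq_of_eqB hM (w := [2, 2, 2, 2, 2]) (w' := []) (by decide +kernel)
  simpa [e, pow_succ, mul_assoc] using h
theorem a_ne : gA ≠ 1 := by
  have h := ne_of_neB' hM (w := [0]) (w' := []) (by decide +kernel)
  simpa [e, pow_succ, mul_assoc] using h
theorem c_ne : gC ≠ 1 := by
  have h := ne_of_neB' hM (w := [2]) (w' := []) (by decide +kernel)
  simpa [e, pow_succ, mul_assoc] using h
theorem ac : gA * gC = gC * gA := by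
  have h := eq_of_eqB hM (w := [0, 2]) (w' := [2, 0]) (by decide +kernel)
  simpa [e, pow_succ, mul_assoc] using h
theorem bc : gB * gC = gC * gB := by
  have h := eq_of_eqB hM (w := [1, 2]) (w' := [2, 1]) (by decide +kernel)
  simpa [e, pow_succ, mul_assoc] using h
theorem ab : gA * gB = gB * gA * gC := by
  have h := eq_of_eqB hM (w := [0, 1]) (w' := [1, 0, 2]) (by decide +kernel)
  simpa [e, pow_succ, mul_assoc] using h

/-- fixed vectors and dual vectors -/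
def vwA : List (List ℤ × List ℤ) := [
  ([7, -1, -1, -1, -1, -1, -1, -1, -1, -1, -1, -1, -1, -1, -1, -1, -1, -1, -1, -1, -1, -1, -1, -13],
   [0, 0, 2, 2, 2, 0, 0, 4, 4, 6, 4, 2, 2, 4, -2, 0, 6, 0, -4, 2, 2, -2, -4, 18]),
  ([5, -1, 1, 5, -1, -1, -1, -3, -3, -1, 1, 3, -3, -3, 1, 3, 1, -3, -3, -3, -1, 5, -3, -15],
   [0, 0, 0, 0, 0, -2, -2, 4, 2, 6, 2, 0, 2, 4, -4, -2, 6, 0, -6, 2, 0, -2, -4, 18]),
  ([5, 3, -1, -3, -1, -1, 1, -3, -3, 1, -1, 1, 5, -3, 3, -1, -1, -3, -3, -3, 1, -3, 5, -15],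
   [0, 0, 2, 4, 4, 4, 2, 6, 0, 6, 2, 4, 2, 2, 0, 4, 4, 0, -2, 6, 0, 2, -2, 6]),
  ([5, 3, 5, 1, -3, -3, 3, -3, -3, -3, 5, -1, -1, -3, 1, -1, 1, -1, -1, -3, -3, 1, -1, -15],
   [1, 3, 3, 5, 7, 5, 5, 7, 7, 7, 7, 3, 7, 7, 1, 1, 9, 5, -1, 3, 5, 1, 1, 9]),
  ([5, -1, -3, -1, -3, -3, 1, -3, -3, 5, -3, 1, 1, -3, -1, 3, 3, -1, -1, -3, 5, -1, 1, -15],
   [0, 2, 4, 4, 4, 2, 2, 2, 6, 4, 6, 2, 2, 4, 2, 0, 4, 2, 0, 0, 4, -2, -2, 12]),
  ([5, 1, -1, -3, 1, 1, 3, -3, -3, -1, -1, -1, -3, -3, -1, 1, 3, 5, 5, -3, -1, -3, -3, -15],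
   [0, 0, 0, 2, 2, 0, 2, 0, 0, 2, -2, 0, 2, 0, -2, 0, 2, -2, 0, 0, -2, 0, -2, 6]),
  ([13, 5, 3, 3, 3, 3, 5, -1, -1, 3, 3, 5, 3, -1, 5, 5, 5, 3, 3, -1, 3, 3, 3, -7],
   [1, 3, 5, 5, 7, 5, 5, 5, 9, 5, 9, 3, 5, 7, 3, 1, 7, 5, 1, 1, 7, -1, 1, 9]),
  ([14, 8, 4, 4, 6, 6, 2, 2, 2, 2, 4, 8, 6, 2, 6, 2, 4, 2, 2, 2, 2, 4, 6, 4],
   [0, 0, 2, 4, 6, 4, 4, 6, 2, 6, 2, 2, 4, 4, -2, 2, 6, 0, -2, 4, 0, 0, -2, 12])]

theorem frA : fr (QuotientGroup.mk gA : Co1) = 2 ^ 8 :=
  Cfsg.Agent.MFive.FixN.card_fix (n := 5) (by decide) repA (vw := vwA) (by decide +kernel) (by decide +kernel) (by decide +kernel) (by decide +kernel)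

/-- fixed vectors and dual vectors -/
def vwC : List (List ℤ × List ℤ) := [
  ([7, -1, -1, -1, -1, -1, -1, -1, -1, -1, -1, -1, -1, -1, -1, -1, -1, -1, -1, -1, -1, -1, -1, -13],
   [1, 1, 1, 1, 1, 1, 1, 1, 1, 1, 1, 1, 1, 1, 1, 1, 1, 1, 1, 1, 1, 1, 1, -3]),
  ([6, -2, -2, 2, -2, -2, -2, -2, -2, 2, -2, 2, -2, -2, -2, 2, 2, -2, -2, -2, 2, 2, -2, -14],
   [1, 1, 1, 1, 1, -1, 1, -1, 1, 1, -1, -1, 1, 1, -1, -1, 1, -1, 1, -1, -1, -1, -1, 3]),
  ([15, 3, 1, 3, 3, 3, 1, 1, 1, 3, 1, 5, 1, 1, 1, 3, 5, 3, 3, 1, 3, 3, 1, -5],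
   [0, 2, 4, 4, 4, 4, 2, 2, 2, 2, 4, 2, 0, 2, 4, 2, 0, 2, 2, 2, 2, 0, 0, 0]),
  ([15, 5, 3, 3, 5, 5, 3, 3, 3, 3, 3, 5, 3, 3, 3, 3, 5, 5, 5, 3, 3, 3, 3, 5],
   [1, 3, 3, 3, 3, 3, 1, 3, 1, 3, 3, 1, 1, 3, 3, 1, 1, 3, 1, 3, 1, 1, 1, -3])]

theorem frC : fr (QuotientGroup.mk gC : Co1) = 2 ^ 4 :=
  Cfsg.Agent.MFive.FixN.card_fix (n := 5) (by decide) repC (vw := vwC) (by decide +kernel) (by decide +kernel) (by decide +kernel) (by decide +kernel)

theorem fr_ne : fr (QuotientGroup.mk gA : Co1) ≠ fr (QuotientGroup.mk gC : Co1) := by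
  rw [frA, frC]; norm_num

theorem memA : gA.1 ∈ Spor.HS := mem_HS repA (by decide +kernel) (by decide +kernel)
theorem memB : gB.1 ∈ Spor.HS := mem_HS repB (by decide +kernel) (by decide +kernel)
theorem memC : gC.1 ∈ Spor.HS := mem_HS repC (by decide +kernel) (by decide +kernel)

theorem main (h3 : 5 ^ 3 ∣ Nat.card Spor.HS) (h4 : ¬ 5 ^ 4 ∣ Nat.card Spor.HS) : ¬ PCent 5 Spor.HS :=
  have : Fact (Nat.Prime 5) := ⟨by norm_num⟩
  Co0.main Spor.HS (fun _ h => h.1.1) h3 h4 memA memB memC a_pow a_ne b_pow c_pow c_ne ac bc ab fr_ne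

end Cfsg.Agent.H573.Spor.HSFive
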