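import Cfsg.Agent.H573.Spor.Bad
import Cfsg.Agent.H573.Spor.ConwayFive
import Cfsg.Agent.CpAut.SporThree.McL

/-!
# `McL` and `Co2` are not `PCent` for `p = 3` (helper573)

The Sylow 3-subgroup of `McL` has exponent 9, its centre has exponent 3.
-/

set_option autoImplicit false
set_option maxRecDepth 100000

namespace Cfsg.Agent.H573.Spor.McLThree

open Subgroup Cfsg Cfsg.Agent.SporadicStructure.PermChain Cfsg.Agent.McLType.Chain Cfsg.Agent.McLType.X275
  Cfsg.Agent.McLType.Gens Cfsg.Agent.McLType.Model Cfsg.Agent.McLType.ThreeElts Cfsg.Agent.CpAut.SporThree.McLBig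

theorem allBelow_of {p : ℕ → Bool} : ∀ {n : ℕ}, (∀ x < n, p x = true) → allBelow p n = true
  | 0, _ => rfl
  | n + 1, h => by
    rw [allBelow, Bool.and_eq_true]
    exact ⟨h n (by omega), allBelow_of fun x hx => h x (by omega)⟩

def cOK (N : ℕ) : Bool :=
  !(allBelow (fun s => eqB (s :: wn 6 0 N) (wn 6 0 N ++ [s])) 6) ||
    eqB (wn 6 0 N ++ (wn 6 0 N ++ wn 6 0 N)) []

theorem c_all : allBelow cOK 729 = true := by decide +kernel

theorem centre {z : Equiv.Perm (Fin 275)} (hz : z ∈ P) (h : ∀ y ∈ P, y * z = z * y) : z ^ 3 = 1 := by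
  obtain ⟨N, hN, rfl⟩ := exists_nf6 hz
  have h1 := allBelow_spec _ _ c_all N hN
  rw [cOK, Bool.or_eq_true] at h1
  rcases h1 with h1 | h1
  · exfalso
    rw [Bool.not_eq_true', ← Bool.not_eq_true] at h1
    apply h1
    have key : ∀ s < 6, eqB (s :: wn 6 0 N) (wn 6 0 N ++ [s]) = true := by
      intro s hs
      have h2 := h (π s) (π_mem s hs)
      have hl : ∀ x ∈ s :: wn 6 0 N, x < 6 := by
        intro x hx
        rcases List.mem_cons.1 hx with rfl | hx
        · exact hs
        · exact wn6_lt N x hx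
      have hr : ∀ x ∈ wn 6 0 N ++ [s], x < 6 := by
        intro x hx
        rcases List.mem_append.1 hx with hx | hx
        · exact wn6_lt N x hx
        · rw [List.mem_singleton.1 hx]; exact hs
      have e : ((s :: wn 6 0 N).map π).prod = ((wn 6 0 N ++ [s]).map π).prod := by
        rw [List.map_cons, List.prod_cons, List.map_append, List.prod_append, List.map_singleton, List.prod_singleton]
        exact h2
      rw [eqB, Bool.and_eq_true, Bool.and_eq_true, Bool.and_eq_true, List.all_eq_true, List.all_eq_true]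
      refine ⟨⟨fun x hx => by rw [Nat.blt_eq]; exact hl x hx, fun x hx => by rw [Nat.blt_eq]; exact hr x hx⟩, ?_, ?_⟩
      · rw [Nat.beq_eq]
        have h3 : (((s :: wn 6 0 N).map π).prod (1 : Fin 275) : ℕ) = (((wn 6 0 N ++ [s]).map π).prod (1 : Fin 275) : ℕ) := by
          rw [e]
        rwa [evalπ _ hl, evalπ _ hr] at h3
      · rw [Nat.beq_eq]
        have h3 : (((s :: wn 6 0 N).map π).prod (2 : Fin 275) : ℕ) = (((wn 6 0 N ++ [s]).map π).prod (2 : Fin 275) : ℕ) := by
          rw [e]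
        rwa [evalπ _ hl, evalπ _ hr] at h3
    exact allBelow_of key
  · have h2 := eq_of_eqB h1
    rw [List.map_append, List.map_append, List.prod_append, List.prod_append, List.map_nil, List.prod_nil] at h2
    change nf N * (nf N * nf N) = 1 at h2
    rw [pow_succ', pow_two]
    exact h2

theorem nf_ne : nf 728 ^ 3 ≠ 1 := by
  intro h
  have h1 : Nat.beq (evalWord 9 pt (wn 6 0 728 ++ (wn 6 0 728 ++ wn 6 0 728)) 1) 1 = false := by decide +kernel
  have hl : ∀ x ∈ wn 6 0 728 ++ (wn 6 0 728 ++ wn 6 0 728), x < 6 := by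
    intro x hx
    simp only [List.mem_append] at hx
    rcases hx with hx | hx | hx <;> exact wn6_lt 728 x hx
  have h2 := evalπ _ hl (1 : Fin 275)
  have h3 : ((wn 6 0 728 ++ (wn 6 0 728 ++ wn 6 0 728)).map π).prod = nf 728 ^ 3 := by
    rw [List.map_append, List.map_append, List.prod_append, List.prod_append, pow_succ', pow_two]
    rfl
  rw [h3, h, Equiv.Perm.one_apply, show ((1 : Fin 275) : ℕ) = 1 from rfl] at h2
  rw [← h2] at h1
  exact absurd h1 (by decide)

theorem bad_P : Bad 3 6 P := by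
  obtain ⟨x, hx, hx3⟩ : ∃ x ∈ P, x ^ 3 ≠ 1 := ⟨nf 728, nf_mem 728, nf_ne⟩
  refine ⟨⊤, 3, by rw [Subgroup.card_top, card_P]; norm_num, ?_, ⟨x, hx⟩, mem_top _, ?_⟩
  · rintro ⟨z, hz⟩ - hc
    exact Subtype.ext (centre hz fun y hy => congrArg Subtype.val (hc ⟨y, hy⟩ (mem_top _)))
  · intro h
    exact hx3 (congrArg Subtype.val h)

theorem bad_G1 : Bad 3 6 G1 := by
  let θ : G1 ≃* ψ.range := MonoidHom.ofInjective ψ_injective
  have hle : P ≤ ψ.range := by
    intro y hy
    obtain ⟨g, hg⟩ := mem_K0_iff.1 (P_le_K0 hy)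
    exact ⟨g, hg⟩
  refine bad_P.map (θ.symm.toMonoidHom.comp (Subgroup.inclusion hle)) ?_
  exact θ.symm.injective.comp (Subgroup.inclusion_injective hle)

theorem bad_mcl : Bad 3 6 Cfsg.Spor.McL := by
  obtain ⟨e⟩ := McLType.X275.isoMcL_G1
  exact bad_G1.map e.toMonoidHom e.injective

theorem bad_co2 : Bad 3 6 Cfsg.Spor.Co2 :=
  bad_mcl.map (Subgroup.inclusion fun _ h => McLFive.le_Co2 h) (Subgroup.inclusion_injective _)

end Cfsg.Agent.H573.Spor.McLThree

namespace Cfsg.Agent.H573.Spor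

theorem mcl_3 {G : Type*} [Group G] (h : Cfsg.Spor.IsoMcL G) : ¬ PCent 3 G := by
  have : Fact (Nat.Prime 3) := ⟨Nat.prime_three⟩
  have : Finite Cfsg.Spor.McL := Nat.finite_of_card_ne_zero (by rw [card_McL]; norm_num)
  exact of_iso (by norm_num) (by rw [card_McL]; norm_num)
    (McLThree.bad_mcl.not_pcent (by rw [card_McL]; norm_num)) h

theorem co2_3 {G : Type*} [Group G] (h : Cfsg.Spor.IsoCo2 G) : ¬ PCent 3 G := by
  have : Fact (Nat.Prime 3) := ⟨Nat.prime_three⟩
  have : Finite Cfsg.Spor.Co2 := Nat.finite_of_card_ne_zero (by rw [Co2Type.CardCo2.card_co2]; norm_num)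
  exact of_iso (by norm_num) (by rw [Co2Type.CardCo2.card_co2]; norm_num)
    (McLThree.bad_co2.not_pcent (by rw [Co2Type.CardCo2.card_co2]; norm_num)) h

end Cfsg.Agent.H573.Spor
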