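import Cfsg.Agent.H573.Spor.ConwayFive
import Cfsg.Agent.MFive.JTwo
import Cfsg.Agent.S1619
import Cfsg.Agent.S0399

/-!
# `Co1` is not `PCent` for `p = 5` (helper573)

`C(s) / ⟨s⟩ ≅ J₂` for an element `s` of order 5.
-/

set_option autoImplicit false

namespace Cfsg.Agent.H573.Spor

open Subgroup Cfsg
open Cfsg.Agent.LThreeMB (fr XX Zx self)

theorem card_XX {G : Type*} [Group G] (x : G) :
    Nat.card (centralizer ({x} : Set G)) = Nat.card (XX x) * orderOf x := by
  rw [Subgroup.card_eq_card_quotient_mul_card_subgroup (Zx x), Zx, Nat.card_zpowers]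
  congr 1
  exact Subgroup.orderOf_mk _ _

theorem card_J2 {G : Type*} [Group G] (h : Cfsg.Spor.IsoJ2 G) : Nat.card G = 604800 := by
  obtain ⟨e⟩ := h
  rw [Nat.card_congr e.toEquiv]
  exact Cfsg.Agent.S1619.result.2.2.2

theorem co1_five : ¬ PCent 5 Cfsg.Spor.Co1 := by
  have : Fact (Nat.Prime 5) := ⟨Nat.prime_five⟩
  have hc : Nat.card Cfsg.Spor.Co1 = 4157776806543360000 := Cfsg.Agent.S0399.result.2
  have : Finite Cfsg.Spor.Co1 := Nat.finite_of_card_ne_zero (by rw [hc]; norm_num)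
  refine not_pcent_of_not_dvd (x := (QuotientGroup.mk (MFive.Oct.e 0) : Cfsg.Spor.Co1)) (k := 1) (n := 4)
    (by rw [MFive.JTwo.order_s1, pow_one]) (by rw [hc]; norm_num) ?_
  rw [card_XX, card_J2 (MFive.JTwo.isoJ2 MFive.JTwo.order_s1 MFive.Oct.fr_A), MFive.JTwo.order_s1]
  norm_num

theorem co1_5 {G : Type*} [Group G] (h : Cfsg.Spor.IsoCo1 G) : ¬ PCent 5 G :=
  of_iso (by norm_num) (by
    have hc : Nat.card Cfsg.Spor.Co1 = 4157776806543360000 := Cfsg.Agent.S0399.result.2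
    rw [hc]; norm_num) co1_five h

end Cfsg.Agent.H573.Spor
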