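import Cfsg.Agent.H573.Spor.Sep
import Cfsg.Agent.CpAutFiSeven.None
import Cfsg.Agent.S1698

/-!
# `Fi24'` at `p = 7` (helper573)

An element of order 7 commuting with exactly 21 transpositions, the ones of an `S_7`: `7 ^ 3` does not divide the
order of its centralizer.
-/

set_option autoImplicit false
set_option maxRecDepth 100000

namespace Cfsg.Agent.H573.Spor.FiSeven

open Subgroup Cfsg Cfsg.Spor Equiv
open Cfsg.Agent.CpAutFiSeven
open Cfsg.Agent.R08.FiTwentyFour (L)
open Cfsg.Spor.Fi24 (Gen)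

theorem not_cube {F : Type*} [Group F] [Finite F] {L : Set F} {N : Subgroup F} {x : ↥N}
    {t : Fin 7 → Fin 7 → F} (h : Tri L (x : F) t) (hL : ∀ d ∈ L, ∀ g : F, g * d * g⁻¹ ∈ L)
    (hc : ∀ d ∈ L, ¬ 49 ∣ Nat.card ↥(centralizer {d} : Subgroup F)) :
    ¬ 7 ^ 3 ∣ Nat.card ↥(centralizer ({x} : Set ↥N)) := by
  intro h7
  let ι : ↥(centralizer {x} : Subgroup ↥N) →* F := N.subtype.comp (centralizer {x}).subtype
  have hιinj : Function.Injective ι := N.subtype_injective.comp (centralizer {x}).subtype_injective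
  have hmem : ∀ g : ↥(centralizer {x} : Subgroup ↥N), (g : ↥N) * x = x * (g : ↥N) := fun g =>
    (mem_centralizer_singleton_iff.1 g.2)
  obtain ⟨f, hf⟩ := h.exists_hom hL ι (fun g => congrArg Subtype.val (hmem g))
  have h1 : Nat.card ↥(centralizer ({x} : Set ↥N)) = Nat.card ↥f.ker * Nat.card ↥f.range := by
    rw [← f.ker.card_mul_index, Subgroup.index_ker]
  have h2 : Nat.card ↥f.range ∣ 5040 := by
    have h3 := card_subgroup_dvd_card f.range
    rw [Nat.card_perm, Nat.card_fin] at h3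
    exact h3
  have h3 : 7 ^ 3 ∣ Nat.card ↥f.ker * 5040 := by
    rw [h1] at h7
    exact h7.trans (mul_dvd_mul_left _ h2)
  have h4 : 49 ∣ Nat.card ↥f.ker := by
    have h5 : (7 : ℕ) * 49 ∣ 7 * (Nat.card ↥f.ker * 720) := by
      have e : 7 * (Nat.card ↥f.ker * 720) = Nat.card ↥f.ker * 5040 := by ring
      rw [e]; exact h3
    have h6 : 49 ∣ Nat.card ↥f.ker * 720 := Nat.dvd_of_mul_dvd_mul_left (by norm_num) h5
    exact Nat.Coprime.dvd_of_dvd_mul_right (by norm_num) h6
  refine hc (t 0 1) (h.mem 0 1 (by decide)) (h4.trans ?_)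
  have h2 : Nat.card ↥(f.ker.map ι) = Nat.card ↥f.ker := card_map_of_injective hιinj
  rw [← h2]
  apply card_dvd_of_le
  rintro _ ⟨g, hg, rfl⟩
  rw [mem_centralizer_singleton_iff]
  have h3 := hf g 0 1 (by decide)
  rw [(MonoidHom.mem_ker).1 hg] at h3
  exact mul_inv_eq_iff_eq_mul.1 h3

theorem y0_mem : y0 ∈ commutator Fi24 := by
  have h := (word_odd Chk.yy).2 (by decide)
  exact h

theorem not_pcent : ¬ PCent 7 Spor.Fi24' := by
  have h7 : Fact (Nat.Prime 7) := ⟨by norm_num⟩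
  have hfin : Finite Fi24 := R08.FiTwentyFour.finite_Fi24
  have hfin' : Finite Spor.Fi24' := inferInstanceAs (Finite ↥(commutator Spor.Fi24))
  have hcard := Cfsg.Agent.S1698.result.2
  refine not_pcent_of_not_dvd (G := Spor.Fi24') (x := (⟨y0, y0_mem⟩ : ↥(commutator Fi24))) (k := 1) (n := 3) ?_ ?_ ?_
  · rw [Subgroup.orderOf_mk, orderOf_y0, pow_one]
  · rw [hcard]; norm_num
  · exact not_cube (F := Fi24) (N := commutator Fi24) (x := ⟨y0, y0_mem⟩) tri0
      (fun d hd g => R08.FiTwentyFour.conj hd g) (fun d hd => card_cent hd)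

end Cfsg.Agent.H573.Spor.FiSeven

namespace Cfsg.Agent.H573.Spor

theorem fi24_7 {G : Type*} [Group G] (h : Cfsg.Spor.IsoFi24' G) : ¬ PCent 7 G := by
  obtain ⟨e⟩ := h
  have : Finite Cfsg.Spor.Fi24 := R08.FiTwentyFour.finite_Fi24
  have hfin' : Finite Cfsg.Spor.Fi24' := inferInstanceAs (Finite ↥(commutator Cfsg.Spor.Fi24))
  have : Finite G := Finite.of_equiv _ e.symm.toEquiv
  have h7 : Fact (Nat.Prime 7) := ⟨by norm_num⟩
  exact fun hc => FiSeven.not_pcent (hc.congr e)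

end Cfsg.Agent.H573.Spor
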