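import Cfsg.Agent.H573.Spor.Sep
import Cfsg.Agent.LThreeFi24.Row24
import Cfsg.Agent.S1698

/-!
# `Fi24'` at `p = 3` (helper573)

The centralizer in `Fi24` of a product of two noncommuting transpositions has order dividing
`2 ^ 14 * 3 ^ 14 * 5 ^ 2 * 7 * 13`, and `3 ^ 16` divides `|Fi24'|`.
-/

set_option autoImplicit false
set_option maxRecDepth 100000

namespace Cfsg.Agent.H573

/-- the product of two braiding involutions which do not commute -/
theorem orderOf_mul_of_braid {G : Type*} [Group G] {a b : G} (ha : a * a = 1) (hb : b * b = 1)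
    (h : a * b * a = b * a * b) (hn : a * b ≠ b * a) : orderOf (a * b) = 3 := by
  have : Fact (Nat.Prime 3) := ⟨by norm_num⟩
  apply orderOf_eq_prime
  · calc (a * b) ^ 3 = a * b * a * (b * a * b) := by simp only [pow_succ, pow_zero, one_mul, mul_assoc]
      _ = a * b * a * (a * b * a) := by rw [h]
      _ = a * b * (a * a) * b * a := by group
      _ = 1 := by rw [ha, mul_one, mul_assoc a b b, hb, mul_one, ha]
  · intro h1
    apply hn
    have h2 : b = a := by
      calc b = a * a * b := by rw [ha, one_mul]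
        _ = a * (a * b) := by group
        _ = a := by rw [h1, mul_one]
    rw [h2]

namespace Spor.FiTwentyFour

open Subgroup Cfsg Cfsg.Spor
open Cfsg.Agent.Fischer.Fi24RepDef Cfsg.Agent.Fischer.Fi24Rep
open Cfsg.Agent.KFacts.FiTF.Pts
open Cfsg.Agent.LThreeFi24.Base24 Cfsg.Agent.LThreeFi24.CaseA Cfsg.Agent.LThreeFi24.Main24
open Cfsg.Spor.Fi24 (Gen)

theorem not_pcent : ¬ PCent 3 Spor.Fi24' := by
  have h3 : Fact (Nat.Prime 3) := ⟨by norm_num⟩
  have hfin : Finite Fi24 := Cfsg.Agent.R08.FiTwentyFour.finite_Fi24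
  have hfin' : Finite Spor.Fi24' := inferInstanceAs (Finite ↥(commutator Spor.Fi24))
  have hcard := Cfsg.Agent.S1698.result.2
  have hl := gen_mem .l
  have hk := gen_mem .k
  have hmem : gen .l * gen .k ∈ commutator Fi24 := Cfsg.Agent.R08.FiTwentyFour.even hl hk
  have hord : orderOf (gen .l * gen .k) = 3 :=
    orderOf_mul_of_braid (Cfsg.Agent.R08.FiTwentyFour.sq hl) (Cfsg.Agent.R08.FiTwentyFour.sq hk)
      ((Cfsg.Agent.R08.FiTwentyFour.three hl hk).resolve_left not_comm_lk) not_comm_lk
  refine not_pcent_of_not_dvd (G := Spor.Fi24') (x := (⟨_, hmem⟩ : ↥(commutator Fi24))) (k := 1) (n := 16) ?_ ?_ ?_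
  · rw [Subgroup.orderOf_mk, hord, pow_one]
  · rw [hcard]; norm_num
  · intro hd
    have h1 : Nat.card ↥(centralizer ({(⟨_, hmem⟩ : ↥(commutator Fi24))} : Set ↥(commutator Fi24))) ∣ Nat.card ↥Z0 := by
      rw [← card_map_of_injective (K := centralizer ({(⟨_, hmem⟩ : ↥(commutator Fi24))} : Set ↥(commutator Fi24)))
        (commutator Fi24).subtype_injective]
      apply card_dvd_of_le
      rintro _ ⟨y, hy, rfl⟩
      have hy' := mem_centralizer_singleton_iff.1 hy
      exact mem_centralizer_singleton_iff.2 (congrArg Subtype.val hy')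
    have h2 := (hd.trans h1).trans card_Z0
    revert h2
    norm_num

end Spor.FiTwentyFour

namespace Spor

theorem fi24_3 {G : Type*} [Group G] (h : Cfsg.Spor.IsoFi24' G) : ¬ PCent 3 G := by
  obtain ⟨e⟩ := h
  have : Finite Cfsg.Spor.Fi24 := Cfsg.Agent.R08.FiTwentyFour.finite_Fi24
  have hfin' : Finite Cfsg.Spor.Fi24' := inferInstanceAs (Finite ↥(commutator Cfsg.Spor.Fi24))
  have : Finite G := Finite.of_equiv _ e.symm.toEquiv
  have h3 : Fact (Nat.Prime 3) := ⟨by norm_num⟩
  exact fun hc => FiTwentyFour.not_pcent (hc.congr e)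

end Spor

end Cfsg.Agent.H573
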