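import Cfsg.Agent.H573.Spor.Norm
import Cfsg.Agent.CpAutHN.Pairs

/-!
# `HN` at `p = 3` (helper573)

`A₁₂ ≤ HN`.
-/

set_option autoImplicit false
set_option maxRecDepth 100000

namespace Cfsg.Agent.H573.Spor

open Subgroup

theorem normP_HN : NormP 3 Cfsg.Spor.HN :=
  (normP_perm 12 (by norm_num)).map Cfsg.Agent.CpAutHN.Alt.Φ Cfsg.Agent.CpAutHN.Alt.Φ_inj

theorem hn_3 {G : Type*} [Group G] (h : Cfsg.Spor.IsoHN G) : ¬ PCent 3 G := by
  obtain ⟨e⟩ := h
  have : Finite Cfsg.Spor.HN := Nat.finite_of_card_ne_zero (by rw [Cfsg.Agent.KFacts.HN.Classes.card_HN]; norm_num)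
  have : Finite G := Finite.of_equiv _ e.symm.toEquiv
  have h3 : Fact (Nat.Prime 3) := ⟨by norm_num⟩
  exact fun hc => normP_HN.not_pcent (hc.congr e)

end Cfsg.Agent.H573.Spor
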