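import Cfsg.Agent.H573.Spor.ConwayFive
import Cfsg.Agent.CpAutRuFive.Main

/-!
# The Rudvalis group is not `PCent` for `p = 5` (helper573)

The element `xB = s² w` of order 5 has `|C(xB)| ≤ 300` and commutes with the element `d` of order 3.
-/

set_option autoImplicit false
set_option maxRecDepth 100000

namespace Cfsg.Agent.H573.Spor

open Subgroup Cfsg

namespace RuR

open Cfsg.Agent.Lib Cfsg.Agent.SporadicB Cfsg.Agent.SporadicB.RuOrder Cfsg.Agent.RuD.Letters
open Cfsg.Agent.SporRec.TCUpperCert Cfsg.Agent.CpAutRuFive Cfsg.Agent.CpAutRuFive.Cert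
open Cfsg.Agent.KFacts.Ru Cfsg.Agent.KFacts.Ru.CentEng
open Cfsg.Agent.RuB (A4)
open Cfsg.Agent.LThree (Comps)

theorem chk : chkEq (wB ++ [4]) ([4] ++ wB) = true := by decide +kernel
theorem chk3 : chkEq ([4] ++ ([4] ++ [4])) [] = true := by decide +kernel
theorem chkne : Nat.beq (evalK [4] 0) 0 = false := by decide +kernel

theorem comm : (wprod ml wB : RuOrder.H) * wprod ml [4] = wprod ml [4] * wprod ml wB := by
  have h := eq_of_chkEq chk
  rwa [wprod_append, wprod_append] at h

theorem order3 : orderOf (wprod ml [4] : RuOrder.H) = 3 := by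
  have : Fact (Nat.Prime 3) := ⟨by norm_num⟩
  apply orderOf_eq_prime
  · have h1 := eq_of_chkEq chk3
    rw [wprod_append, wprod_append, wprod_nil] at h1
    rw [← h1]
    simp only [pow_succ, pow_zero, one_mul, mul_assoc]
  · intro h1
    have h2 := evalK_eq [4] ⟨0, by norm_num⟩
    rw [h1] at h2
    have h3 : evalK [4] 0 = 0 := h2.symm
    have h4 := chkne
    rw [h3] at h4
    exact absurd h4 (by decide)

theorem five : ¬ PCent 5 RuOrder.H := by
  have : Fact (Nat.Prime 5) := ⟨by norm_num⟩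
  have hf : Finite RuOrder.H := finite_H
  intro h
  have h1 : 5 ^ 3 ∣ Nat.card ↥(centralizer ({wprod ml wB} : Set RuOrder.H)) :=
    h.dvd ⟨1, by rw [orderB, pow_one]⟩ (by rw [card_H]; norm_num)
  have h2 : 3 ∣ Nat.card ↥(centralizer ({wprod ml wB} : Set RuOrder.H)) := by
    have h3 : wprod ml [4] ∈ centralizer ({wprod ml wB} : Set RuOrder.H) :=
      mem_centralizer_singleton_iff.2 comm.symm
    have h4 := orderOf_dvd_natCard (⟨wprod ml [4], h3⟩ : centralizer ({wprod ml wB} : Set RuOrder.H))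
    rw [← Subgroup.orderOf_coe] at h4
    rw [← order3]
    exact h4
  have h3 : 5 ^ 3 * 3 ∣ Nat.card ↥(centralizer ({wprod ml wB} : Set RuOrder.H)) :=
    Nat.Coprime.mul_dvd_of_dvd_of_dvd (by norm_num) h1 h2
  have h4 := Nat.le_of_dvd Nat.card_pos h3
  have h5 := cardB
  omega

end RuR

theorem ru_5 {G : Type*} [Group G] (h : Cfsg.Spor.IsoRu G) : ¬ PCent 5 G := by
  obtain ⟨e⟩ := h
  exact of_iso (by norm_num) (by rw [Cfsg.Agent.SporadicB.RuOrder.card_H]; norm_num) RuR.five
    ⟨e.trans Cfsg.Agent.RuLat.Main.equiv⟩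

end Cfsg.Agent.H573.Spor
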