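import Cfsg.Agent.H573.Spor.Sep
import Cfsg.Agent.LThreeFi22.Inst

/-!
# `Fi22` at `p = 3` (helper573)

The product of two noncommuting transpositions has the centralizer `3 × U4(3).2`, and `3 ^ 9` divides `|Fi22|`.
-/

set_option autoImplicit false
set_option maxRecDepth 100000

namespace Cfsg.Agent.H573.Spor

open Subgroup
open Cfsg.Agent.LThreeFi22

theorem fi22_3 {G : Type*} [Group G] (h : Cfsg.Spor.IsoFi22 G) : ¬ PCent 3 G := by
  obtain ⟨e⟩ := h
  have C := Inst.ctx e
  have : Finite G := Nat.finite_of_card_ne_zero (by rw [C.card]; norm_num)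
  have h3 : Fact (Nat.Prime 3) := ⟨by norm_num⟩
  obtain ⟨a, ha, b, hb, -, -, hab, -, -⟩ := C.mupos
  have hord : orderOf (a * b) = 3 := by
    apply orderOf_eq_prime
    · have h1 := (C.three a ha b hb).resolve_left hab
      have ha2 := C.sq a ha
      have hb2 := C.sq b hb
      calc (a * b) ^ 3 = a * b * a * (b * a * b) := by simp only [pow_succ, pow_zero, one_mul, mul_assoc]
        _ = a * b * a * (a * b * a) := by rw [h1]
        _ = a * b * (a * a) * b * a := by group
        _ = 1 := by rw [ha2, mul_one, mul_assoc a b b, hb2, mul_one, ha2]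
    · intro h1
      apply hab
      have h2 : b = a := by
        calc b = a * a * b := by rw [C.sq a ha, one_mul]
          _ = a * (a * b) := by group
          _ = a := by rw [h1, mul_one]
      rw [h2]
  refine not_pcent_of_not_dvd (x := a * b) (k := 1) (n := 9) ?_ ?_ ?_
  · rw [hord, pow_one]
  · rw [C.card]; norm_num
  · rw [C.card_three ha hb hab]; norm_num

end Cfsg.Agent.H573.Spor
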