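import Cfsg.Agent.H573.Spor.Sep
import Cfsg.Agent.CpAutJThree.Row

/-!
# `J₃` at `p = 3` (helper573)

There is an element of order 3 whose centralizer has order 1080, and `3 ^ 5` divides the order of the group.
-/

set_option autoImplicit false
set_option maxRecDepth 100000

namespace Cfsg.Agent.H573.Spor

open Subgroup

theorem j3_3 {G : Type*} [Group G] (h : Cfsg.Spor.IsoJ3 G) : ¬ PCent 3 G := by
  have h1 := (Cfsg.Agent.CpAutJThree.base h).1
  have : Finite G := Nat.finite_of_card_ne_zero (by rw [h1]; norm_num)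
  have h3 : Fact (Nat.Prime 3) := ⟨by norm_num⟩
  obtain ⟨c, hc, -, h2⟩ := Cfsg.Agent.CpAutJThree.exc h
  refine not_pcent_of_not_dvd (x := c) (k := 1) (n := 5) ?_ ?_ ?_
  · rw [hc, pow_one]
  · rw [h1]; norm_num
  · rw [h2]; norm_num

end Cfsg.Agent.H573.Spor
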