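import Cfsg.Agent.H573.Spor.Norm
import Cfsg.Agent.TypeM.FactsLy

/-!
# `Ly` at `p = 3` (helper573)

The centralizer of an involution is a double cover of `A₁₁`.
-/

set_option autoImplicit false
set_option maxRecDepth 100000

namespace Cfsg.Agent.H573.Spor

open Subgroup

/-- a double cover of `Alt n`, `9 ≤ n` -/
theorem normP_of_cover {C : Type*} [Group C] [Finite C] {n : ℕ} (hn : 9 ≤ n)
    (h : Cfsg.IsNonsplitDoubleCover C (alternatingGroup (Fin n))) : NormP 3 C := by
  have h3 : Fact (Nat.Prime 3) := ⟨by norm_num⟩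
  obtain ⟨h1, ⟨e⟩, -⟩ := h
  refine (normP_perm n hn).lift (e.toMonoidHom.comp (QuotientGroup.mk' (center C)))
    (e.surjective.comp (QuotientGroup.mk'_surjective _)) ?_
  have hk : (e.toMonoidHom.comp (QuotientGroup.mk' (center C))).ker = center C := by
    ext x
    rw [MonoidHom.mem_ker, MonoidHom.comp_apply]
    show e (QuotientGroup.mk' (center C) x) = 1 ↔ _
    rw [map_eq_one_iff e e.injective]
    exact QuotientGroup.eq_one_iff x
  rw [hk, h1]
  norm_num

theorem normP_Ly : NormP 3 Cfsg.Spor.Ly := by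
  have : Finite Cfsg.Spor.Ly := Cfsg.Agent.Ly.Setup.finite_ly
  exact (normP_of_cover (by norm_num) Cfsg.Agent.TypeM.FactsLy.isNonsplit_ly).of_le

theorem ly_3 {G : Type*} [Group G] (h : Cfsg.Spor.IsoLy G) : ¬ PCent 3 G := by
  obtain ⟨e⟩ := h
  have : Finite Cfsg.Spor.Ly := Cfsg.Agent.Ly.Setup.finite_ly
  have : Finite G := Finite.of_equiv _ e.symm.toEquiv
  have h3 : Fact (Nat.Prime 3) := ⟨by norm_num⟩
  exact fun hc => normP_Ly.not_pcent (hc.congr e)

end Cfsg.Agent.H573.Spor
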