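import Cfsg.Agent.H573.Spor.Base
import Cfsg.Agent.LThreeCo1.Ev
import Cfsg.Agent.MFive.FixN

/-!
# `PCent` for subgroups of `Co0` (helper573)

`main` : a subgroup `X` of `Co₀` of order divisible by `p ^ 3` and not by `p ^ 4` containing elements `a`, `b`, `c` of order
`p` with `a b = b a c`, `c` commuting with `a`, `b`, and such that `a`, `c` have different numbers of fixed points on
`Λ / 2Λ` is not `PCent p`.
-/

set_option autoImplicit false

namespace Cfsg.Agent.H573.Spor.Co0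

open Subgroup Cfsg Cfsg.Agent.SporadicA Cfsg.Agent.SporadicStructure.Co0Matrix Cfsg.Agent.CoOneType.CoEval
open Cfsg.Agent.MonsterU.Lam2
open Cfsg.Agent.LThreeMB (fr fr_conj)
open Cfsg.Spor (Co1)

theorem stab_of_ap {g : Co0} {R : List (List ℤ)} (hR : Rep g R) {v : leechLattice} {l : List ℤ} (hl : l.length ≤ 24)
    (hv : (v : GolayPt → ℤ) = vec l) (h : eqL (ap R l) l = true) : g.1 v = v :=
  Subtype.ext (by rw [hR.apply hl hv, eqL_eq h, hv])

def lU : List ℤ := [4, 0, 0, 0, 0, 0, 0, 0, 0, 0, 0, 0, 0, 0, 0, 0, 0, 0, 0, 0, 0, 0, 0, 4]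
def lU' : List ℤ := [-4, 0, 0, 0, 0, 0, 0, 0, 0, 0, 0, 0, 0, 0, 0, 0, 0, 0, 0, 0, 0, 0, 0, 4]
def lV : List ℤ := [-1, -1, -1, -1, -1, -1, -1, -1, -1, -1, -1, -1, -1, -1, -1, -1, -1, -1, -1, -1, -1, -1, -1, -5]

theorem vU : ((Spor.leechU : leechLattice) : GolayPt → ℤ) = vec lU := by
  have h : ∀ p, Spor.vecU p = vec lU p := by decide +kernel
  funext p; exact h p
theorem vU' : ((Spor.leechU' : leechLattice) : GolayPt → ℤ) = vec lU' := by
  have h : ∀ p, Spor.vecU' p = vec lU' p := by decide +kernel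
  funext p; exact h p
theorem vV : ((Spor.leechV : leechLattice) : GolayPt → ℤ) = vec lV := by
  have h : ∀ p, Spor.vecV p = vec lV p := by decide +kernel
  funext p; exact h p

theorem mem_Co2 {g : Co0} {R : List (List ℤ)} (hR : Rep g R) (hu : eqL (ap R lU) lU = true) : g.1 ∈ Spor.Co2 :=
  ⟨g.2, MulAction.mem_stabilizer_iff.2 (stab_of_ap hR (by decide) vU hu)⟩

theorem mem_Co3 {g : Co0} {R : List (List ℤ)} (hR : Rep g R) (hv : eqL (ap R lV) lV = true) : g.1 ∈ Spor.Co3 :=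
  ⟨g.2, MulAction.mem_stabilizer_iff.2 (stab_of_ap hR (by decide) vV hv)⟩

theorem mem_McL {g : Co0} {R : List (List ℤ)} (hR : Rep g R) (hv : eqL (ap R lV) lV = true)
    (hu : eqL (ap R lU) lU = true) : g.1 ∈ Spor.McL :=
  ⟨mem_Co3 hR hv, MulAction.mem_stabilizer_iff.2 (stab_of_ap hR (by decide) vU hu)⟩

theorem mem_HS {g : Co0} {R : List (List ℤ)} (hR : Rep g R) (hv : eqL (ap R lV) lV = true)
    (hu : eqL (ap R lU') lU' = true) : g.1 ∈ Spor.HS :=
  ⟨mem_Co3 hR hv, MulAction.mem_stabilizer_iff.2 (stab_of_ap hR (by decide) vU' hu)⟩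

theorem fr_eq_of_conj {s t u : Co1} {k : ℕ} {m : ℤ} (h : u * s * u⁻¹ = t ^ k) (hm : (t ^ k) ^ m = t) : fr s = fr t := by
  rw [← fr_conj u s, h]
  apply Nat.card_congr
  refine Equiv.subtypeEquivRight fun v => ?_
  constructor
  · intro hv
    have h1 : t ^ k ∈ MulAction.stabilizer Co1 v := hv
    have h2 := zpow_mem h1 m
    rw [hm] at h2
    exact h2
  · intro hv
    exact pow_mem (show t ∈ MulAction.stabilizer Co1 v from hv) k

/-- the class of an element of `Co₀` in `Co₁` -/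
def toCo1 (X : Subgroup (Equiv.Perm leechLattice)) (hX : X ≤ Co0) : X →* Co1 :=
  (QuotientGroup.mk' (center Co0)).comp (Subgroup.inclusion hX)

theorem main {p : ℕ} [Fact p.Prime] (X : Subgroup (Equiv.Perm leechLattice)) (hX : X ≤ Co0) (h3 : p ^ 3 ∣ Nat.card X)
    (h4 : ¬ p ^ 4 ∣ Nat.card X) {a b c : Co0} (ha : a.1 ∈ X) (hb : b.1 ∈ X) (hc : c.1 ∈ X) (ha1 : a ^ p = 1) (ha2 : a ≠ 1)
    (hb1 : b ^ p = 1) (hc1 : c ^ p = 1) (hc2 : c ≠ 1) (hac : a * c = c * a) (hbc : b * c = c * b) (hab : a * b = b * a * c)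
    (hfr : fr (QuotientGroup.mk a : Co1) ≠ fr (QuotientGroup.mk c : Co1)) : ¬ PCent p X := by
  have hp : p.Prime := Fact.out
  have hfin : Finite X := by
    refine Nat.finite_of_card_ne_zero fun h => ?_
    rw [h] at h4
    exact h4 (dvd_zero _)
  intro h
  let P : Sylow p X := default
  have hP : Nat.card (P : Subgroup X) = p ^ 3 := card_sylow_of P h3 h4
  have ca : ∀ {g : Co0} (_ : g ^ p = 1) (hg : g.1 ∈ X), (⟨g.1, hg⟩ : X) ^ p = 1 := fun {g} h hg =>
    Subtype.ext (show g.1 ^ p = 1 from congrArg Subtype.val h)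
  have cn : ∀ {g : Co0} (_ : g ≠ 1) (hg : g.1 ∈ X), (⟨g.1, hg⟩ : X) ≠ 1 := fun {g} h hg h' =>
    h (Subtype.ext (show g.1 = 1 from congrArg Subtype.val h'))
  have hna : ¬ IsMulCommutative (P : Subgroup X) := by
    refine not_comm_of_class_two (a := ⟨a.1, ha⟩) (b := ⟨b.1, hb⟩) (c := ⟨c.1, hc⟩) (i := 1) (j := 1) (k := 1)
      (by rw [pow_one]; exact ca ha1 ha) (by rw [pow_one]; exact ca hb1 hb) (by rw [pow_one]; exact ca hc1 hc)
      (Subtype.ext (show a.1 * c.1 = c.1 * a.1 from congrArg Subtype.val hac))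
      (Subtype.ext (show b.1 * c.1 = c.1 * b.1 from congrArg Subtype.val hbc))
      (Subtype.ext (show a.1 * b.1 = b.1 * a.1 * c.1 from congrArg Subtype.val hab)) ?_ P
    intro h'
    have h1 : a * b = b * a := Subtype.ext (show a.1 * b.1 = b.1 * a.1 from congrArg Subtype.val h')
    rw [hab] at h1
    exact hc2 (mul_eq_left.1 h1)
  have oa : orderOf (⟨a.1, ha⟩ : X) = p := orderOf_eq_prime (ca ha1 ha) (cn ha2 ha)
  have oc : orderOf (⟨c.1, hc⟩ : X) = p := orderOf_eq_prime (ca hc1 hc) (cn hc2 hc)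
  obtain ⟨g, k, hg⟩ := h.conj_cube P hP hna oa oc
  have hk : orderOf ((⟨c.1, hc⟩ : X) ^ k) = p := by
    rw [← hg, ← oa]
    have := orderOf_injective (MulAut.conj g).toMonoidHom (MulAut.conj g).injective (⟨a.1, ha⟩ : X)
    simpa [MulAut.conj_apply] using this
  have hz : zpowers ((⟨c.1, hc⟩ : X) ^ k) = zpowers (⟨c.1, hc⟩ : X) := by
    apply Subgroup.eq_of_le_of_card_ge
    · rw [zpowers_le]; exact pow_mem (mem_zpowers _) k
    · rw [Nat.card_zpowers, Nat.card_zpowers, hk, oc]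
  have hm : (⟨c.1, hc⟩ : X) ∈ zpowers ((⟨c.1, hc⟩ : X) ^ k) := by rw [hz]; exact mem_zpowers _
  obtain ⟨m, hm⟩ := mem_zpowers_iff.1 hm
  apply hfr
  have e1 : toCo1 X hX ⟨a.1, ha⟩ = (QuotientGroup.mk a : Co1) := rfl
  have e2 : toCo1 X hX ⟨c.1, hc⟩ = (QuotientGroup.mk c : Co1) := rfl
  rw [← e1, ← e2]
  refine fr_eq_of_conj (u := toCo1 X hX g) (k := k) (m := m) ?_ ?_
  · rw [← map_inv, ← map_mul, ← map_mul, hg, map_pow]
  · rw [← map_pow, ← map_zpow, hm]

end Cfsg.Agent.H573.Spor.Co0
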